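import Cfsg.Agent.Lib.Helper56.L37Q.Main
import Cfsg.Agent.Lib.Helper28.TCOrbit

set_option autoImplicit false
set_option linter.unusedVariables false

namespace Cfsg.Agent.Lib.Helper56.L37Perm

open Cfsg.Agent.Lib.Helper56.L37Q (Gen)
open Cfsg.Agent.Lib.Helper28.TC Cfsg.Agent.Lib.Helper56.L37Q

noncomputable section

/-- generating words of level 0 -/
def words0 : List (List Gen) := [
  [Gen.p],
  [Gen.q],
  [Gen.r],
  [Gen.s]]

def orbT0_c0 : ℕ := 0x331f3c87c711f3c07c301f1bc746e1d0b8746d1d3a86caa1b2a06c681b19864251918864221917c5cde172785c5e173745c9d171745c1b1706854191506054d4152505493133484c92130484cd1130444c5013038444d11130440c1102c3c4a0f3203c880f11c34070d11834060d3102c840b1102c03092081c01053000c0001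
def orbT0 : ℕ := orbT0_c0
def orbE0 (i : ℕ) : ℕ := look orbT0 18 262143 i
/-- orbit certificate of level 0 -/
def OC0 : OrbCert where
  inO := fun i => Nat.beq (Nat.land (orbE0 i) 1) 1
  dep := fun i => Nat.land (Nat.shiftRight (orbE0 i) 1) 127
  opar := fun i => Nat.land (Nat.shiftRight (orbE0 i) 8) 63
  ogen := fun i => Nat.shiftRight (orbE0 i) 14
  root := 0
def orbP0 (i : ℕ) : Bool := orbRowOK tf nn words0 OC0 i

/-- generating words of level 1 -/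
def words1 : List (List Gen) := [
  [Gen.p],
  [Gen.q],
  [Gen.r]]

def orbT1_c0 : ℕ := 0xb6210d884711f0c87c30211bc846e1d0b8746d1f2b07caa1b2a074681d1987425191886c221b17c5ca11b2785c9f1729c649d1909c641b150685419150605c97172504c93132544c5a15048541413044445011038444d131303c0c0f02c3c4a0f23c44880d11c34070d1182c060b2142c8409110240307208140103000040000
def orbT1 : ℕ := orbT1_c0
def orbE1 (i : ℕ) : ℕ := look orbT1 18 262143 i
/-- orbit certificate of level 1 -/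
def OC1 : OrbCert where
  inO := fun i => Nat.beq (Nat.land (orbE1 i) 1) 1
  dep := fun i => Nat.land (Nat.shiftRight (orbE1 i) 1) 127
  opar := fun i => Nat.land (Nat.shiftRight (orbE1 i) 8) 63
  ogen := fun i => Nat.shiftRight (orbE1 i) 14
  root := 1
def orbP1 (i : ℕ) : Bool := orbRowOK tf nn words1 OC1 i

/-- generating words of level 2 -/
def words2 : List (List Gen) := [
  [Gen.p, Gen.r, Gen.p, Gen.q, Gen.r, Gen.p, Gen.q, Gen.p, Gen.r, Gen.q, Gen.p, Gen.r, Gen.p, Gen.q, Gen.p, Gen.q, Gen.r, Gen.p, Gen.q, Gen.p, Gen.r, Gen.p, Gen.q, Gen.p, Gen.r, Gen.q, Gen.p, Gen.r, Gen.p],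
  [Gen.p, Gen.r, Gen.p, Gen.q, Gen.r, Gen.p, Gen.q, Gen.p, Gen.r, Gen.q, Gen.p, Gen.r, Gen.p, Gen.q, Gen.r, Gen.p, Gen.r, Gen.q, Gen.p, Gen.r, Gen.p, Gen.q, Gen.r, Gen.p, Gen.q, Gen.p, Gen.r, Gen.q, Gen.p, Gen.r, Gen.p]]

def orbT2_c0 : ℕ := 0x540900000230d16c2c6e111182c000000000150d00c44090f11c440b0b1604442030483c6f131703422110d4342a050e02c250f0104444111143402030282c080b04c24330d1d83c1a0f1901c00001202c240713c1c5d0d00000000007814611303c1c050d05c244d091b0340d0907c3c140906c2c0c0f1303c0001000000000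
def orbT2 : ℕ := orbT2_c0
def orbE2 (i : ℕ) : ℕ := look orbT2 18 262143 i
/-- orbit certificate of level 2 -/
def OC2 : OrbCert where
  inO := fun i => Nat.beq (Nat.land (orbE2 i) 1) 1
  dep := fun i => Nat.land (Nat.shiftRight (orbE2 i) 1) 127
  opar := fun i => Nat.land (Nat.shiftRight (orbE2 i) 8) 63
  ogen := fun i => Nat.shiftRight (orbE2 i) 14
  root := 2
def orbP2 (i : ℕ) : Bool := orbRowOK tf nn words2 OC2 i

/-- generating words of level 3 -/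
def words3 : List (List Gen) := [
  [Gen.p, Gen.r, Gen.p, Gen.q, Gen.r, Gen.p, Gen.q, Gen.p, Gen.r, Gen.p, Gen.q, Gen.p, Gen.r, Gen.q, Gen.p, Gen.q, Gen.p, Gen.r, Gen.p, Gen.q, Gen.p, Gen.q, Gen.p, Gen.r, Gen.q, Gen.p, Gen.r, Gen.p, Gen.r, Gen.q, Gen.p, Gen.r, Gen.p, Gen.q, Gen.p, Gen.q, Gen.p, Gen.r, Gen.q, Gen.p, Gen.r, Gen.p, Gen.r, Gen.p, Gen.q, Gen.r, Gen.p, Gen.q, Gen.p, Gen.q, Gen.p, Gen.r, Gen.p, Gen.q, Gen.r, Gen.p, Gen.r, Gen.p, Gen.q, Gen.r, Gen.p, Gen.q, Gen.p, Gen.q, Gen.p, Gen.r, Gen.p, Gen.q, Gen.r, Gen.p, Gen.r, Gen.p, Gen.q, Gen.r, Gen.p, Gen.q, Gen.p, Gen.q, Gen.p, Gen.r, Gen.p, Gen.q, Gen.p, Gen.q, Gen.r, Gen.p, Gen.q, Gen.p, Gen.q, Gen.p, Gen.r, Gen.p, Gen.q, Gen.r, Gen.p, Gen.r, Gen.p, Gen.q, Gen.r, Gen.p, Gen.q, Gen.p, Gen.q, Gen.p, Gen.r, Gen.p, Gen.q, Gen.p, Gen.q, Gen.r, Gen.p, Gen.q, Gen.p, Gen.r, Gen.p, Gen.q, Gen.p, Gen.r, Gen.q, Gen.p, Gen.r, Gen.p],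
  [Gen.p, Gen.r, Gen.p, Gen.q, Gen.r, Gen.p, Gen.q, Gen.p, Gen.r, Gen.p, Gen.q, Gen.p, Gen.r, Gen.q, Gen.p, Gen.q, Gen.p, Gen.r, Gen.p, Gen.q, Gen.p, Gen.q, Gen.p, Gen.r, Gen.q, Gen.p, Gen.r, Gen.p, Gen.r, Gen.q, Gen.p, Gen.r, Gen.p, Gen.q, Gen.p, Gen.q, Gen.p, Gen.r, Gen.q, Gen.p, Gen.q, Gen.p, Gen.r, Gen.p, Gen.q, Gen.p, Gen.q, Gen.p, Gen.r, Gen.q, Gen.p, Gen.q, Gen.p, Gen.r, Gen.p, Gen.q, Gen.p, Gen.q, Gen.p, Gen.r, Gen.q, Gen.p, Gen.r, Gen.p, Gen.r, Gen.p, Gen.q, Gen.r, Gen.p, Gen.q, Gen.p, Gen.q, Gen.p, Gen.r, Gen.p, Gen.q, Gen.p, Gen.q, Gen.r, Gen.p, Gen.q, Gen.p, Gen.q, Gen.p, Gen.r, Gen.p, Gen.q, Gen.r, Gen.p, Gen.r, Gen.p, Gen.q, Gen.r, Gen.p, Gen.q, Gen.p, Gen.q, Gen.p, Gen.r, Gen.p, Gen.q, Gen.r, Gen.p, Gen.r, Gen.p, Gen.q, Gen.r, Gen.p, Gen.q, Gen.p, Gen.q, Gen.p, Gen.r, Gen.p, Gen.q, Gen.p, Gen.q, Gen.r, Gen.p, Gen.q, Gen.p, Gen.q, Gen.p, Gen.r, Gen.p, Gen.q, Gen.p, Gen.q,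 Gen.r, Gen.p, Gen.q, Gen.p, Gen.r, Gen.p, Gen.q, Gen.p, Gen.r, Gen.q, Gen.p, Gen.r, Gen.p]]

def orbT3_c0 : ℕ := 0x440718c3403031a81465090000043031a41c00001a02c450b0000000000000000000000000000000000000000000000000000000000000000000000000000000000000000000000000000000000000000000000000000001b0246605000040000000000000
def orbT3 : ℕ := orbT3_c0
def orbE3 (i : ℕ) : ℕ := look orbT3 18 262143 i
/-- orbit certificate of level 3 -/
def OC3 : OrbCert where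
  inO := fun i => Nat.beq (Nat.land (orbE3 i) 1) 1
  dep := fun i => Nat.land (Nat.shiftRight (orbE3 i) 1) 127
  opar := fun i => Nat.land (Nat.shiftRight (orbE3 i) 8) 63
  ogen := fun i => Nat.shiftRight (orbE3 i) 14
  root := 3
def orbP3 (i : ℕ) : Bool := orbRowOK tf nn words3 OC3 i

/-- generating words of the point stabilizer part -/
def wordsK : List (List Gen) := [
  [Gen.p],
  [Gen.q],
  [Gen.r]]

def subT_c0 : ℕ := 0x2d8810d8811c4790c8790c0811bc811b8710b8711b4792b0792a8692a0711a0711987109461188690886917c59284692785927c5929c612746109c6106c5106851064510605925c592504924c492544916851048510504904441140410384113449130390303902c391283923c412203111c3101c31118290182921429210211102100c1920811004090000100000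
def subT : ℕ := subT_c0
def subE (i : ℕ) : ℕ := look subT 20 1048575 i
/-- the suborbit label of a point -/
def lab (i : ℕ) : ℕ := Nat.land (subE i) 7
/-- orbit certificate of the suborbit with label `j` and root `r` -/
def OCs (j r : ℕ) : OrbCert where
  inO := fun i => Nat.beq (lab i) j
  dep := fun i => Nat.land (Nat.shiftRight (subE i) 3) 127
  opar := fun i => Nat.land (Nat.shiftRight (subE i) 10) 63
  ogen := fun i => Nat.shiftRight (subE i) 16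
  root := r
/-- the number of suborbits -/
def nlab : ℕ := 1
/-- label `0` only at the base point, labels at most `nlab` -/
def labP (i : ℕ) : Bool := band (Nat.ble (lab i) nlab) (Bool.rec (nlt 0 (lab i)) (Nat.beq (lab i) 0) (Nat.beq i 0))
def subP1 (i : ℕ) : Bool := orbRowOK tf nn wordsK (OCs 1 1) i

/-- words `u`, `v` of order 19 with `x = u * v` for each generator `x` -/
def uvWords : List (Gen × List Gen × List Gen) := [
  (Gen.p, [Gen.r, Gen.q, Gen.r, Gen.p, Gen.s, Gen.p, Gen.r, Gen.p, Gen.r], [Gen.r, Gen.p, Gen.r, Gen.p, Gen.s, Gen.p, Gen.r, Gen.q, Gen.r, Gen.p]),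
  (Gen.q, [Gen.r, Gen.p, Gen.q, Gen.p, Gen.s, Gen.p, Gen.r, Gen.p, Gen.q, Gen.r, Gen.q, Gen.p, Gen.r], [Gen.r, Gen.p, Gen.q, Gen.r, Gen.q, Gen.p, Gen.r, Gen.p, Gen.s, Gen.p, Gen.q, Gen.p, Gen.r, Gen.q]),
  (Gen.r, [Gen.p, Gen.q, Gen.p, Gen.s, Gen.p, Gen.r, Gen.p, Gen.q, Gen.r, Gen.q, Gen.p], [Gen.p, Gen.q, Gen.r, Gen.q, Gen.p, Gen.r, Gen.p, Gen.s, Gen.p, Gen.q, Gen.p, Gen.r]),
  (Gen.s, [Gen.q, Gen.p, Gen.s, Gen.p, Gen.s, Gen.p, Gen.s, Gen.q, Gen.p], [Gen.p, Gen.q, Gen.s, Gen.p, Gen.s, Gen.p, Gen.s, Gen.p, Gen.q, Gen.s])]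

/-- the remaining generators as words in the others -/
def exWords : List (Gen × List Gen) := [
  ]

/-- row check: `u ^ 19` and `v ^ 19` fix row `i`, and `u * v` acts as `x` -/
def ordP (i : ℕ) : Bool :=
  band (allList (fun t => band (Nat.beq (act tf (List.replicate 19 t.2.1).flatten i) i)
    (band (Nat.beq (act tf (List.replicate 19 t.2.2).flatten i) i)
      (Nat.beq (act tf (t.2.1 ++ t.2.2) i) (tf t.1 i)))) uvWords)
    (allList (fun t => Nat.beq (act tf t.2 i) (tf t.1 i)) exWords)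


end

end Cfsg.Agent.Lib.Helper56.L37Perm
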